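import Mathlib

set_option autoImplicit false
universe u v w

namespace Groth.Agent.Branch8
open PowerSeries

theorem codim_map {k : Type u} [Field k] {R : Type v} {N : Type w} [AddCommGroup R] [Module k R] [AddCommGroup N] [Module k N]
    (ι : R →ₗ[k] N) (hι : Function.Injective ι) [Module.Finite k (N ⧸ LinearMap.range ι)] (I : Submodule k R) :
    (Module.Finite k (R ⧸ I) ↔ Module.Finite k (N ⧸ I.map ι)) ∧
    (Module.Finite k (R ⧸ I) → Module.finrank k (N ⧸ I.map ι) = Module.finrank k (R ⧸ I) + Module.finrank k (N ⧸ LinearMap.range ι)) := by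
  let f : (R ⧸ I) →ₗ[k] (N ⧸ I.map ι) := I.mapQ (I.map ι) ι (Submodule.le_comap_map _ _)
  have hf : Function.Injective f := by
    rw [← LinearMap.ker_eq_bot, Submodule.ker_mapQ, Submodule.comap_map_eq_of_injective hι, Submodule.mkQ_map_self]
  have hr : LinearMap.range f = (LinearMap.range ι).map (I.map ι).mkQ := Submodule.range_mapQ _ _ _ _
  let e := Submodule.quotientQuotientEquivQuotient (I.map ι) (LinearMap.range ι) LinearMap.map_le_range
  have hq : Module.Finite k ((N ⧸ I.map ι) ⧸ LinearMap.range f) := by rw [hr]; exact Module.Finite.equiv e.symm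
  refine ⟨⟨fun h => ?_, fun h => Module.Finite.of_injective f hf⟩, fun h => ?_⟩
  · haveI : Module.Finite k (LinearMap.range f) := Module.Finite.range f
    exact Module.Finite.of_submodule_quotient (LinearMap.range f)
  · haveI : Module.Finite k (LinearMap.range f) := Module.Finite.range f
    haveI : Module.Finite k (N ⧸ I.map ι) := Module.Finite.of_submodule_quotient (LinearMap.range f)
    have h1 := Submodule.finrank_quotient_add_finrank (LinearMap.range f)
    rw [LinearMap.finrank_range_of_inj hf] at h1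
    have h2 : Module.finrank k ((N ⧸ I.map ι) ⧸ LinearMap.range f) = Module.finrank k (N ⧸ LinearMap.range ι) := by
      rw [hr]; exact e.finrank_eq
    omega

theorem bijection (k : Type u) [Field k] (s : ℕ)
    (R : Subalgebra k (Fin s → PowerSeries k))
    (hfin : Module.Finite k ((Fin s → PowerSeries k) ⧸ Subalgebra.toSubmodule R))
    (c : Fin s → ℕ)
    (hc : ∀ f : Fin s → PowerSeries k,
      (∀ g : Fin s → PowerSeries k, g * f ∈ R) ↔ ∀ i, ((c i : ℕ) : ℕ∞) ≤ (f i).order)
    (j : Fin s) (d : ℕ) (a : Fin s → ℕ) (hj : c j ≤ a j) :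
    (∀ I ∈ {I : Ideal ↥R | Module.Finite k (↥R ⧸ I) ∧ Module.finrank k (↥R ⧸ I) = d ∧ (∀ i : Fin s, Ideal.map ((Pi.evalAlgHom k (fun _ : Fin s => PowerSeries k) i).comp R.val) I = Ideal.span {PowerSeries.X ^ (a i)})},
      ∃ J ∈ {I : Ideal ↥R | Module.Finite k (↥R ⧸ I) ∧ Module.finrank k (↥R ⧸ I) = d + 1 ∧ (∀ i : Fin s, Ideal.map ((Pi.evalAlgHom k (fun _ : Fin s => PowerSeries k) i).comp R.val) I = Ideal.span {PowerSeries.X ^ ((Function.update a j (a j + 1)) i)})},
        (Subtype.val '' (J : Set ↥R)) = (fun f => Pi.mulSingle j PowerSeries.X * f) '' (Subtype.val '' (I : Set ↥R))) ∧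
    (∀ J ∈ {I : Ideal ↥R | Module.Finite k (↥R ⧸ I) ∧ Module.finrank k (↥R ⧸ I) = d + 1 ∧ (∀ i : Fin s, Ideal.map ((Pi.evalAlgHom k (fun _ : Fin s => PowerSeries k) i).comp R.val) I = Ideal.span {PowerSeries.X ^ ((Function.update a j (a j + 1)) i)})},
      ∃ I ∈ {I : Ideal ↥R | Module.Finite k (↥R ⧸ I) ∧ Module.finrank k (↥R ⧸ I) = d ∧ (∀ i : Fin s, Ideal.map ((Pi.evalAlgHom k (fun _ : Fin s => PowerSeries k) i).comp R.val) I = Ideal.span {PowerSeries.X ^ (a i)})},
        (Subtype.val '' (J : Set ↥R)) = (fun f => Pi.mulSingle j PowerSeries.X * f) '' (Subtype.val '' (I : Set ↥R))) := by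
  classical
  set ξ : Fin s → PowerSeries k := Pi.mulSingle j PowerSeries.X with hξ
  have hξj : ξ j = PowerSeries.X := Pi.mulSingle_eq_same _ _
  have hξi : ∀ i, i ≠ j → ξ i = 1 := fun i h => Pi.mulSingle_eq_of_ne h _
  let L : (Fin s → PowerSeries k) →ₗ[k] (Fin s → PowerSeries k) := LinearMap.mulLeft k ξ
  have hL : Function.Injective L := by
    intro x y h
    funext i
    have := congrFun h i
    simp only [L, LinearMap.mulLeft_apply, Pi.mul_apply] at this
    rcases eq_or_ne i j with rfl | hi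
    · rw [hξj] at this; exact mul_left_cancel₀ PowerSeries.X_ne_zero this
    · rwa [hξi i hi, one_mul, one_mul] at this
  let χ : (Fin s → PowerSeries k) →ₗ[k] k := (PowerSeries.coeff 0).comp (LinearMap.proj j)
  have hχ : LinearMap.range L = LinearMap.ker χ := by
    ext f
    simp only [LinearMap.mem_range, LinearMap.mem_ker, χ, L, LinearMap.comp_apply, LinearMap.proj_apply, LinearMap.mulLeft_apply]
    constructor
    · rintro ⟨g, rfl⟩; simp [hξj]
    · intro h
      obtain ⟨q, hq⟩ : PowerSeries.X ∣ f j := PowerSeries.X_dvd_iff.mpr (by simpa using h)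
      refine ⟨Function.update f j q, funext fun i => ?_⟩
      rcases eq_or_ne i j with rfl | hi
      · simp [hξj, hq]
      · simp [hξi i hi, hi]
  have hχs : Function.Surjective χ := fun r => ⟨fun _ => PowerSeries.C r, by simp [χ]⟩
  let eL : ((Fin s → PowerSeries k) ⧸ LinearMap.range L) ≃ₗ[k] k :=
    (Submodule.quotEquivOfEq _ _ hχ).trans (χ.quotKerEquivOfSurjective hχs)
  haveI hLf : Module.Finite k ((Fin s → PowerSeries k) ⧸ LinearMap.range L) := Module.Finite.equiv eL.symm
  have hL1 : Module.finrank k ((Fin s → PowerSeries k) ⧸ LinearMap.range L) = 1 := by rw [eL.finrank_eq, Module.finrank_self]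
  let ι : R →ₗ[k] (Fin s → PowerSeries k) := R.val.toLinearMap
  have hιr : LinearMap.range ι = Subalgebra.toSubmodule R := by ext f; simp [ι]
  haveI : Module.Finite k ((Fin s → PowerSeries k) ⧸ LinearMap.range ι) := by rw [hιr]; exact hfin
  have hιi : Function.Injective ι := Subtype.val_injective
  -- correction term lies in R
  have corr : ∀ h : Fin s → PowerSeries k, (∀ i, i ≠ j → h i = 0) → PowerSeries.X ^ a j ∣ h j → h ∈ R := by
    intro h h0 hd
    have := (hc h).mpr (fun i => by
      rcases eq_or_ne i j with rfl | hi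
      · exact PowerSeries.nat_le_order _ _ fun m hm => PowerSeries.X_pow_dvd_iff.mp hd m (by omega)
      · rw [h0 i hi, PowerSeries.order_zero]; exact le_top) 1
    rwa [one_mul] at this
  have key : ∀ (f : Fin s → PowerSeries k), PowerSeries.X ^ a j ∣ f j → (ξ * f ∈ R ↔ f ∈ R) := by
    intro f hf
    have h := corr (ξ * f - f) (fun i hi => by simp [hξi i hi]) (by
      simp only [Pi.sub_apply, Pi.mul_apply, hξj]
      exact dvd_sub (hf.mul_left _) hf)
    constructor
    · intro h1; simpa using R.sub_mem h1 h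
    · intro h1; simpa using R.add_mem h h1
  have himg : ∀ (I : Ideal R) (i : Fin s), Ideal.map ((Pi.evalAlgHom k (fun _ : Fin s => PowerSeries k) i).comp R.val) I = Ideal.span ((fun x : R => (x : Fin s → PowerSeries k) i) '' I) := fun I i => rfl
  have hdimeq : ∀ I J : Ideal R, (J.restrictScalars k).map ι = ((I.restrictScalars k).map ι).map L →
      (Module.Finite k (R ⧸ I) ↔ Module.Finite k (R ⧸ J)) ∧ (Module.Finite k (R ⧸ I) → Module.finrank k (R ⧸ J) = Module.finrank k (R ⧸ I) + 1) := by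
    intro I J hIJ
    obtain ⟨a1, a2⟩ := codim_map ι hιi (I.restrictScalars k)
    obtain ⟨b1, b2⟩ := codim_map L hL ((I.restrictScalars k).map ι)
    obtain ⟨c1, c2⟩ := codim_map ι hιi (J.restrictScalars k)
    rw [hIJ] at c1 c2
    let eI := Submodule.Quotient.restrictScalarsEquiv k I
    let eJ := Submodule.Quotient.restrictScalarsEquiv k J
    have fI : Module.Finite k (R ⧸ I) ↔ Module.Finite k (R ⧸ I.restrictScalars k) := (Module.Finite.equiv_iff eI).symm
    have fJ : Module.Finite k (R ⧸ J) ↔ Module.Finite k (R ⧸ J.restrictScalars k) := (Module.Finite.equiv_iff eJ).symm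
    refine ⟨(fI.trans a1).trans (b1.trans (c1.symm.trans fJ.symm)), fun h => ?_⟩
    have hI' := fI.mp h
    have x1 := a2 hI'
    have x2 := b2 (a1.mp hI')
    have x3 := c2 (c1.mpr (b1.mp (a1.mp hI')))
    rw [eI.finrank_eq] at x1
    rw [eJ.finrank_eq] at x3
    omega
  have hset : ∀ (I J : Ideal R), (Subtype.val '' (J : Set ↥R)) = (fun f => ξ * f) '' (Subtype.val '' (I : Set ↥R)) →
      (J.restrictScalars k).map ι = ((I.restrictScalars k).map ι).map L := fun I J h => SetLike.coe_injective (by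
    simpa [ι, L, Submodule.map_coe] using h)
  have hmap : ∀ (I J : Ideal R), (Subtype.val '' (J : Set ↥R)) = (fun f => ξ * f) '' (Subtype.val '' (I : Set ↥R)) → ∀ i,
      Ideal.span ((fun x : R => (x : Fin s → PowerSeries k) i) '' J) = Ideal.span {ξ i} * Ideal.span ((fun x : R => (x : Fin s → PowerSeries k) i) '' I) := by
    intro I J h i
    rw [Ideal.span_mul_span', Set.singleton_mul]
    congr 1
    have := congrArg (fun S => (fun f : Fin s → PowerSeries k => f i) '' S) h
    simpa only [Set.image_image, Pi.mul_apply] using this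
  refine ⟨?_, ?_⟩
  · rintro I ⟨hIf, hId, hIi⟩
    have hdvd : ∀ x ∈ I, PowerSeries.X ^ a j ∣ (x : Fin s → PowerSeries k) j := by
      intro x hx
      rw [← Ideal.mem_span_singleton, ← hIi j, himg]
      exact Ideal.subset_span ⟨x, hx, rfl⟩
    let J : Ideal R :=
      { carrier := {y : R | ∃ x ∈ I, (y : Fin s → PowerSeries k) = ξ * x}
        add_mem' := by rintro y z ⟨x, hx, ex⟩ ⟨w, hw, ew⟩; exact ⟨x + w, I.add_mem hx hw, by simp [ex, ew, mul_add]⟩
        zero_mem' := ⟨0, I.zero_mem, by simp⟩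
        smul_mem' := by rintro r y ⟨x, hx, ex⟩; exact ⟨r * x, I.mul_mem_left r hx, by simp [ex]; ring⟩ }
    have hJ : (Subtype.val '' (J : Set ↥R)) = (fun f => ξ * f) '' (Subtype.val '' (I : Set ↥R)) := by
      ext f
      constructor
      · rintro ⟨y, ⟨x, hx, e⟩, rfl⟩; exact ⟨x, ⟨x, hx, rfl⟩, e.symm⟩
      · rintro ⟨_, ⟨x, hx, rfl⟩, rfl⟩; exact ⟨⟨ξ * x, (key _ (hdvd x hx)).mpr x.2⟩, ⟨x, hx, rfl⟩, rfl⟩
    obtain ⟨d1, d2⟩ := hdimeq I J (hset I J hJ)
    refine ⟨J, ⟨d1.mp hIf, by rw [d2 hIf, hId], fun i => ?_⟩, hJ⟩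
    rw [himg, hmap I J hJ, ← himg, hIi, Ideal.span_singleton_mul_span_singleton]
    rcases eq_or_ne i j with rfl | hi
    · rw [hξj, Function.update_self, pow_succ']
    · rw [hξi i hi, Function.update_of_ne hi, one_mul]
  · rintro J ⟨hJf, hJd, hJi⟩
    have hdvd : ∀ y ∈ J, PowerSeries.X ^ (a j + 1) ∣ (y : Fin s → PowerSeries k) j := by
      intro y hy
      rw [← Ideal.mem_span_singleton]
      have := hJi j
      rw [Function.update_self] at this
      rw [← this, himg]
      exact Ideal.subset_span ⟨y, hy, rfl⟩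
    let I : Ideal R :=
      { carrier := {x : R | ∃ y ∈ J, (y : Fin s → PowerSeries k) = ξ * x}
        add_mem' := by rintro y z ⟨x, hx, ex⟩ ⟨w, hw, ew⟩; exact ⟨x + w, J.add_mem hx hw, by simp [ex, ew, mul_add]⟩
        zero_mem' := ⟨0, J.zero_mem, by simp⟩
        smul_mem' := by rintro r y ⟨x, hx, ex⟩; exact ⟨r * x, J.mul_mem_left r hx, by simp [ex]; ring⟩ }
    have hJ : (Subtype.val '' (J : Set ↥R)) = (fun f => ξ * f) '' (Subtype.val '' (I : Set ↥R)) := by
      ext f
      constructor
      · rintro ⟨y, hy, rfl⟩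
        obtain ⟨q, hq⟩ := hdvd y hy
        let g := Function.update (y : Fin s → PowerSeries k) j (PowerSeries.X ^ a j * q)
        have hg : (y : Fin s → PowerSeries k) = ξ * g := by
          funext i
          rcases eq_or_ne i j with rfl | hi
          · simp [g, hξj, hq, pow_succ']; ring
          · simp [g, hξi i hi, hi]
        have hgR : g ∈ R := (key g (by simp [g])).mp (hg ▸ y.2)
        exact ⟨g, ⟨⟨g, hgR⟩, ⟨y, hy, hg⟩, rfl⟩, hg.symm⟩
      · rintro ⟨_, ⟨x, ⟨y, hy, e⟩, rfl⟩, rfl⟩; exact ⟨y, hy, e⟩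
    obtain ⟨d1, d2⟩ := hdimeq I J (hset I J hJ)
    refine ⟨I, ⟨d1.mpr hJf, by have := d2 (d1.mpr hJf); omega, fun i => ?_⟩, hJ⟩
    have := hmap I J hJ i
    rw [← himg, hJi] at this
    rw [himg]
    refine (Ideal.span_singleton_mul_right_inj (x := ξ i) ?_).mp (this.symm.trans ?_)
    · rcases eq_or_ne i j with rfl | hi
      · rw [hξj]; exact PowerSeries.X_ne_zero
      · rw [hξi i hi]; exact one_ne_zero
    · rw [Ideal.span_singleton_mul_span_singleton]
      rcases eq_or_ne i j with rfl | hi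
      · rw [hξj, Function.update_self, pow_succ']
      · rw [hξi i hi, Function.update_of_ne hi, one_mul]

end Groth.Agent.Branch8
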